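import Mathlib
import Cfsg.Agent.Lib.ChDeg.ThreeDeg
import Cfsg.Agent.Lib.ChDeg.Broline
import Cfsg.Agent.Lib.ChDeg.SylNorm
import Cfsg.Agent.Lib.CharDeep.Gallagher
import Cfsg.Agent.Lib.CharDeep.ProjDet

/-! Tools for the theorem on solvable groups with four character degrees. -/

set_option autoImplicit false

namespace CfsgLib.Garr

open Cfsg CfsgLib.Char CfsgLib.CharDeep CfsgLib.ChDeg Subgroup
open scoped commutatorElement

attribute [local instance] Fintype.ofFinite

variable {G : Type*} [Group G] [Finite G] {p : ℕ}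

/-- `χ` lies over `θ`. -/
abbrev Ov (N : Subgroup G) (χ : G → ℂ) (θ : N → ℂ) : Prop := classInner (fun n : N => χ n) θ ≠ 0

theorem val_le_of_dvd {m n : ℕ} (h : m ∣ n) (hn : n ≠ 0) : m.factorization p ≤ n.factorization p :=
  (Nat.factorization_le_iff_dvd (ne_zero_of_dvd_ne_zero hn h) hn).2 h p

theorem val_mul {m n : ℕ} (hm : m ≠ 0) (hn : n ≠ 0) :
    (m * n).factorization p = m.factorization p + n.factorization p := by
  rw [Nat.factorization_mul hm hn]; rfl

theorem exists_val_le (hp : p.Prime) {Θ : G → ℂ} (hΘ : IsCharacter G Θ) (h0 : charDegree Θ ≠ 0) :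
    ∃ ψ, IsIrrCharacter G ψ ∧ classInner Θ ψ ≠ 0 ∧
      (charDegree ψ).factorization p ≤ (charDegree Θ).factorization p := by
  by_contra c
  push Not at c
  have := (hp.pow_dvd_iff_le_factorization h0).1 (dvd_deg_of_forall hΘ
    (d := p ^ ((charDegree Θ).factorization p + 1)) fun ψ h1 h2 =>
      (hp.pow_dvd_iff_le_factorization (deg_pos h1).ne').2 (c ψ h1 h2))
  omega

theorem exists_over_val (hp : p.Prime) (H : Subgroup G) {τ : H → ℂ} (hτ : IsIrrCharacter H τ) :
    ∃ ψ, IsIrrCharacter G ψ ∧ Ov H ψ τ ∧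
      (charDegree ψ).factorization p ≤ H.index.factorization p + (charDegree τ).factorization p := by
  have hc := isCharacter_of_isIrr hτ
  have e := deg_ind H hc
  obtain ⟨ψ, h1, h2, h3⟩ := exists_val_le hp (isCharacter_indFun H hc)
    (e ▸ mul_ne_zero index_ne_zero_of_finite (deg_pos hτ).ne')
  refine ⟨ψ, h1, fun c => h2 ?_, by rwa [e, val_mul index_ne_zero_of_finite (deg_pos hτ).ne'] at h3⟩
  rw [classInner_indFun_left H _ (isClassFunction_of_isIrr h1)]
  exact classInner_eq_zero_symm c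

theorem Ov.cker_iff {K H : Subgroup G} [K.Normal] (h : K ≤ H) {χ : G → ℂ} (hχ : IsIrrCharacter G χ) {ξ : H → ℂ}
    (hξ : IsIrrCharacter H ξ) (o : Ov H χ ξ) : K.subgroupOf H ≤ cker ξ ↔ K ≤ cker χ := by
  have hc := isCharacter_of_isIrr hχ
  refine ⟨fun l => le_cker_of_inner_res_one_ne_zero hχ K
    (inner_res_ne_zero_trans h hc hξ isCharacter_one o ?_), fun l => ?_⟩
  · rw [show (fun k : K => ξ ⟨k, h k.2⟩) = ξ 1 • fun _ => 1 from funext fun k => by
      simpa using (mem_cker (isCharacter_of_isIrr hξ)).1 (l (show (⟨k, h k.2⟩ : H) ∈ _ from k.2)),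
      classInner_smul_left, classInner_one_one, mul_one]
    exact irr_one_ne_zero hξ
  · refine le_trans ?_ (cker_le_of_inner_ne_zero (isCharacter_restrict H hc) hξ o)
    rw [cker_res H hc]
    exact comap_mono l

/-- The permutation character on the cosets of `T`. -/
theorem exists_small (T D : Subgroup G) (h : ¬ D ≤ T) :
    ∃ ψ, IsIrrCharacter G ψ ∧ ¬ D ≤ cker ψ ∧ T.normalCore ≤ cker ψ ∧ charDegree ψ < T.index := by
  have hc := isCharacter_indFun T (isCharacter_one (G := T))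
  by_contra c
  push Not at c
  refine h fun x hx => mem_of_indFun_one_eq T ?_
  rw [← mem_cker hc]
  refine mem_cker_of_forall hc fun ψ hψ hi => ?_
  by_contra n
  have e := eq_of_inner_ne_zero_of_deg_le hc hψ hi (by
    rw [deg_ind T isCharacter_one, deg_one, mul_one]
    exact c ψ hψ (fun l => n (l hx)) ((le_cker_indFun T isCharacter_one _ T.normalCore_le fun _ _ => rfl).trans
      (cker_le_of_inner_ne_zero hc hψ hi)))
  have h2 : classInner (indFun T (fun _ => 1)) (fun _ => 1) ≠ 0 := by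
    rw [classInner_indFun_left T _ (isClassFunction_const 1), classInner_one_one]
    exact one_ne_zero
  rw [e] at h2
  rw [irr_eq_of_classInner_ne_zero hψ isIrr_one h2, cker_one] at n
  exact n (mem_top x)

omit [Finite G] in
theorem comm_subgroupOf {X H : Subgroup G} [X.Normal] (h : X ≤ H) :
    (⁅X, X⁆ : Subgroup G).subgroupOf H = ⁅X.subgroupOf H, X.subgroupOf H⁆ := by
  apply map_injective H.subtype_injective
  rw [map_commutator, map_subgroupOf_eq_of_le h,
    map_subgroupOf_eq_of_le ((commutator_le_right X X).trans h)]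

/-- Taketa's argument for the `p`-parts of the degrees. -/
theorem exists_val_lt (hp : p.Prime) {X : Subgroup G} [X.Normal] (hX : IsPGroup p X) {χ : G → ℂ}
    (hχ : IsIrrCharacter G χ) (h : ¬ ⁅X, X⁆ ≤ cker χ) :
    ∃ ψ, IsIrrCharacter G ψ ∧ ¬ X ≤ cker ψ ∧ (charDegree ψ).factorization p < (charDegree χ).factorization p := by
  haveI := Fact.mk hp
  obtain ⟨P, hP⟩ := hX.exists_le_sylow
  obtain ⟨ξ, h1, h2, h3⟩ := exists_val_le hp (isCharacter_restrict (P : Subgroup G) (isCharacter_of_isIrr hχ))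
    (by rw [deg_res]; exact (deg_pos hχ).ne')
  rw [deg_res] at h3
  rw [← Ov.cker_iff ((commutator_le_right X X).trans hP) hχ h1 h2, comm_subgroupOf hP] at h
  haveI := P.2.isNilpotent
  obtain ⟨H, l, e⟩ := monomial_of_isNilpotent ξ h1
  obtain ⟨τ, t1, t2, -, t3⟩ := exists_small H (X.subgroupOf P) fun c => h (e ▸ commutator_le_cker_indFun H l _ c)
  have hl := isCharacter_of_isIrr (isIrr_unitsHom l)
  have e2 : charDegree ξ = H.index := by rw [e, deg_ind H hl, (deg_eq_one_iff hl).2 (by simp), mul_one]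
  obtain ⟨ψ, s1, s2, s3⟩ := exists_over_val hp (P : Subgroup G) t1
  refine ⟨ψ, s1, fun c => t2 ((Ov.cker_iff hP s1 t1 s2).2 c), s3.trans_lt (lt_of_lt_of_le ?_ h3)⟩
  obtain ⟨i, hi⟩ := exists_deg_eq_pow P.2 t1
  obtain ⟨j, hj⟩ := exists_deg_eq_pow P.2 h1
  rw [← e2, hi, hj, Nat.pow_lt_pow_iff_right hp.one_lt] at t3
  rwa [Nat.factorization_eq_zero_of_not_dvd P.not_dvd_index, zero_add, hi, hj, hp.factorization_pow,
    hp.factorization_pow, Finsupp.single_eq_same, Finsupp.single_eq_same]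

theorem exists_ext {K R : Subgroup G} [K.Normal] (h : K ≤ R) {θ : K → ℂ} (hθ : IsIrrCharacter K θ)
    (hi : R ≤ inertia K θ) {m : ℕ} (hm : (K.relIndex R).Coprime m) (h1 : charDegree θ ∣ m)
    (h2 : ∀ n, detChar θ n ^ m = 1) :
    ∃ η : R → ℂ, IsIrrCharacter R η ∧ (∀ n : K, η ⟨n, h n.2⟩ = θ n) ∧ (K.relIndex R).Coprime (detOrder η) ∧
      ∀ η' : R → ℂ, IsIrrCharacter R η' → (∀ n : K, η' ⟨n, h n.2⟩ = θ n) →
        (K.relIndex R).Coprime (detOrder η') → η' = η := by
  have h3 := isIrr_comp_mulEquiv (subgroupOfEquivOfLe h) hθ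
  have h4 : detOrder (fun n => θ (subgroupOfEquivOfLe h n)) ∣ m := orderOf_dvd_of_pow_eq_one (funext fun n => by
    rw [Pi.pow_apply, ← detChar_comp (subgroupOfEquivOfLe h).toMonoidHom (isCharacter_of_isIrr hθ) h3
      (fun _ => rfl) n, h2]; rfl)
  obtain ⟨η, ⟨a1, a2, a3⟩, a4⟩ := exists_canonical_extension (K.subgroupOf R) h3
    (fun g n => (mem_inertia' K).1 (hi g.2) ⟨n, n.2⟩) (d := charDegree θ)
    (by rw [map_one, deg_cast (isCharacter_of_isIrr hθ)])
    (Nat.Coprime.mul_right (hm.coprime_dvd_right h4) (hm.coprime_dvd_right h1))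
  exact ⟨η, a1, fun n => a2 ⟨⟨n, h n.2⟩, n.2⟩, a3 ▸ hm.coprime_dvd_right h4,
    fun η' b1 b2 b3 => a4 η' b1 (fun n => b2 ⟨n, n.2⟩) b3⟩

section ext

variable {F R : Subgroup G} [F.Normal] [R.Normal] (hp : p.Prime) (hF : IsPGroup p F) (h : F ≤ R)
  (hR : ¬ p ∣ F.relIndex R)
include hp hF h hR

/-- The canonical extension. -/
theorem exists_can {θ : F → ℂ} (hθ : IsIrrCharacter F θ) (hi : R ≤ inertia F θ) :
    ∃ η : R → ℂ, IsIrrCharacter R η ∧ (∀ n : F, η ⟨n, h n.2⟩ = θ n) ∧ inertia F θ ≤ inertia R η := by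
  haveI := Fact.mk hp
  obtain ⟨k, hk⟩ := hF.exists_card_eq
  obtain ⟨μ, hμ⟩ := exists_hom_detChar θ
  obtain ⟨η, a1, a2, a3, a4⟩ := exists_ext h hθ hi (m := Nat.card F)
    (hk ▸ ((hp.coprime_iff_not_dvd.2 hR).symm.pow_right k)) (deg_dvd_card hθ) fun n => by
      rw [hμ, ← Units.val_pow_eq_pow_val, ← map_pow, pow_card_eq_one', map_one, Units.val_one]
  refine ⟨η, a1, a2, fun g hg => a4 _ (isIrr_conjChar R g a1)
    (fun n => (a2 ⟨_, Normal.conj_mem inferInstance _ n.2 g⟩).trans ((mem_inertia' F).1 hg n))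
    (a3.coprime_dvd_right (orderOf_dvd_of_pow_eq_one (funext fun n => ?_)))⟩
  rw [Pi.pow_apply, ← detChar_comp (MulAut.conjNormal g).toMonoidHom (isCharacter_of_isIrr a1)
    (isIrr_conjChar R g a1) (fun _ => rfl) n]
  exact congrFun (pow_orderOf_eq_one (detChar η)) _

theorem exists_over_mul {θ : F → ℂ} (hθ : IsIrrCharacter F θ) (hi : R ≤ inertia F θ) {β : R → ℂ}
    (hβ : IsIrrCharacter R β) (hk : F.subgroupOf R ≤ cker β) :
    ∃ χ, IsIrrCharacter G χ ∧ Ov F χ θ ∧ (inertia R β).index * (charDegree β * charDegree θ) ∣ charDegree χ := by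
  obtain ⟨η, a1, a2, a3⟩ := exists_can hp hF h hR hθ hi
  have hc := isCharacter_of_isIrr a1
  have b1 : IsIrrCharacter (F.subgroupOf R) fun n => η n := by
    convert isIrr_comp_mulEquiv (subgroupOfEquivOfLe h) hθ using 2 with n
    exact a2 ⟨n, n.2⟩
  have b2 := (le_cker_iff (isCharacter_of_isIrr hβ)).1 hk
  have b3 := gallagher_isIrr _ hc b1 hβ b2
  have b4 : (fun n : F => (β * η) ⟨n, h n.2⟩) = β 1 • θ := funext fun n => by
    simp only [Pi.mul_apply, Pi.smul_apply, smul_eq_mul]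
    rw [a2, b2 _ n.2]
  obtain ⟨χ, c1, c2⟩ := exists_irr_over R b3
  refine ⟨χ, c1, inner_res_ne_zero_trans h (isCharacter_of_isIrr c1) b3 (isCharacter_of_isIrr hθ) c2 ?_,
    dvd_trans ?_ (index_inertia_mul_dvd R c1 b3 c2)⟩
  · rw [b4, classInner_smul_left, classInner_irr_self hθ, mul_one]
    exact irr_one_ne_zero hβ
  · rw [deg_mul (isCharacter_of_isIrr hβ) hc, deg_congr (a2 1)]
    refine Nat.mul_dvd_mul_right (index_dvd_of_le fun g hg => ?_) _
    have g1 : g ∈ inertia F θ := (mem_inertia' F).2 fun n => mul_left_cancel₀ (irr_one_ne_zero hβ)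
      ((congrFun b4 ⟨_, Normal.conj_mem inferInstance _ n.2 g⟩).symm.trans
        (((mem_inertia' R).1 hg ⟨n, h n.2⟩).trans (congrFun b4 n)))
    refine gallagher_inj _ hc b1 (isIrr_conjChar R g hβ) (fun n hn => ?_) hβ b2 ?_
    · rw [conjChar_apply_one]
      exact b2 _ (Normal.conj_mem (H := F) inferInstance _ hn g)
    · rw [← (mem_inertia R).1 hg]
      nth_rw 1 [← (mem_inertia R).1 (a3 g1)]
      rfl

theorem exists_under_eq (ha : ⁅R, R⁆ ≤ F) {θ : F → ℂ} (hθ : IsIrrCharacter F θ) (hi : R ≤ inertia F θ)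
    {χ : G → ℂ} (hχ : IsIrrCharacter G χ) (o : Ov F χ θ) :
    ∃ ρ, IsIrrCharacter R ρ ∧ Ov R χ ρ ∧ charDegree ρ = charDegree θ := by
  obtain ⟨η, a1, a2, -⟩ := exists_can hp hF h hR hθ hi
  have e : (fun n : F.subgroupOf R => η n) = fun n => θ (subgroupOfEquivOfLe h n) := funext fun n => a2 ⟨n, n.2⟩
  obtain ⟨ρ, b1, b2, b3⟩ := exists_irr_between' h (isClassFunction_of_isIrr hχ) o
  obtain ⟨β, c1, c2, rfl⟩ := gallagher_surj (F.subgroupOf R) (isCharacter_of_isIrr a1)
    (e ▸ isIrr_comp_mulEquiv (subgroupOfEquivOfLe h) hθ) b1 (by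
      rw [e, ← classInner_comp_mulEquiv (subgroupOfEquivOfLe h).symm]
      exact b3)
  refine ⟨_, b1, b2, ?_⟩
  rw [deg_mul (isCharacter_of_isIrr c1) (isCharacter_of_isIrr a1), deg_congr (a2 1),
    (deg_eq_one_iff_commutator_le c1).2 (le_trans ?_ ((le_cker_iff (isCharacter_of_isIrr c1)).2 c2)), one_mul]
  rw [← map_le_map_iff_of_injective R.subtype_injective, map_subtype_commutator, map_subgroupOf_eq_of_le h]
  exact ha

omit hF in
theorem exists_over_min {β : R → ℂ} (hβ : IsIrrCharacter R β) (hk : F.subgroupOf R ≤ cker β) :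
    ∃ η, IsIrrCharacter G η ∧ Ov R η β ∧
      (charDegree η).factorization p ≤ (inertia R β).index.factorization p := by
  haveI := Fact.mk hp
  have hc := isCharacter_of_isIrr hβ
  have l := le_inertia R (isClassFunction_of_isIrr hβ)
  obtain ⟨P⟩ : Nonempty (Sylow p (inertia R β)) := inferInstance
  set Q := (P : Subgroup (inertia R β)).map (inertia R β).subtype
  have lJ : R ⊔ Q ≤ inertia R β := sup_le l (map_subtype_le _)
  obtain ⟨k, hk'⟩ := (P.2.map (inertia R β).subtype).exists_card_eq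
  obtain ⟨μ, hμ⟩ := exists_hom_detChar β
  have d1 := deg_dvd_index_of_le_cker hβ _ hk
  obtain ⟨η, a1, a2, -⟩ := exists_ext (le_sup_left : R ≤ R ⊔ Q) hβ lJ (m := F.relIndex R)
    (Nat.Coprime.coprime_dvd_left (by rw [relIndex_sup_left, ← hk']; exact relIndex_dvd_card R Q)
      ((hp.coprime_iff_not_dvd.2 hR).pow_left k)) d1 fun n => by
      rw [hμ, ← Units.val_pow_eq_pow_val, ← map_pow]
      have : n ^ F.relIndex R ∈ _ := (F.subgroupOf R).pow_index_mem n
      rw [← hμ, detChar_of_norm_eq hc (by rw [(mem_cker hc).1 (hk this)]), (mem_cker hc).1 (hk this),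
        div_self (irr_one_ne_zero hβ), one_pow]
  obtain ⟨ψ, s1, s2, s3⟩ := exists_over_val hp (R ⊔ Q) a1
  refine ⟨ψ, s1, inner_res_ne_zero_trans le_sup_left (isCharacter_of_isIrr s1) a1 hc s2 ?_, s3.trans_eq ?_⟩
  · rw [funext a2, classInner_irr_self hβ]
    exact one_ne_zero
  · rw [deg_congr (a2 1), Nat.factorization_eq_zero_of_not_dvd fun c => hR (c.trans d1), add_zero,
      ← relIndex_mul_index lJ, val_mul (m := relIndex _ _) index_ne_zero_of_finite index_ne_zero_of_finite,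
      Nat.factorization_eq_zero_of_not_dvd (n := relIndex _ _)
        fun c => P.not_dvd_index (c.trans (index_dvd_of_le ?_)), zero_add]
    exact map_le_iff_le_comap.1 le_sup_right

/-- The `p`-part of a degree over `β` is smaller than the `p`-part of a degree over `θ`. -/
theorem exists_pair {θ : F → ℂ} (hθ : IsIrrCharacter F θ) (h1 : p ∣ charDegree θ) (hi : R ≤ inertia F θ)
    {β : R → ℂ} (hβ : IsIrrCharacter R β) (hk : F.subgroupOf R ≤ cker β) :
    ∃ η χ, IsIrrCharacter G η ∧ IsIrrCharacter G χ ∧ Ov R η β ∧ Ov F χ θ ∧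
      (inertia R β).index * charDegree β ∣ charDegree χ ∧
      (charDegree η).factorization p < (charDegree χ).factorization p := by
  obtain ⟨η, a1, a2, a3⟩ := exists_over_min hp h hR hβ hk
  obtain ⟨χ, b1, b2, b3⟩ := exists_over_mul hp hF h hR hθ hi hβ hk
  refine ⟨η, χ, a1, b1, a2, b2, dvd_trans ⟨_, (mul_assoc _ _ _).symm⟩ b3,
    a3.trans_lt (lt_of_lt_of_le ?_ (val_le_of_dvd b3 (deg_pos b1).ne'))⟩
  have := hp.factorization_pos_of_dvd (deg_pos hθ).ne' h1
  rw [val_mul index_ne_zero_of_finite (mul_pos (deg_pos hβ) (deg_pos hθ)).ne',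
    val_mul (deg_pos hβ).ne' (deg_pos hθ).ne']
  omega

end ext

theorem deg_le_of_ov {N : Subgroup G} [N.Normal] (hN : _root_.commutator G ≤ N) {χ χ' : G → ℂ}
    (hχ : IsIrrCharacter G χ) (hχ' : IsIrrCharacter G χ') {φ : N → ℂ} (hφ : IsIrrCharacter N φ) (o : Ov N χ φ)
    (o' : Ov N χ' φ) : charDegree χ' ≤ charDegree χ := by
  have hc := isCharacter_of_isIrr hχ
  obtain ⟨Ξ, a1, a2⟩ := exists_eq_add_of_inner_ne_zero (isCharacter_restrict N (isCharacter_of_isIrr hχ')) hφ o'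
  obtain ⟨m, hm⟩ := exists_classInner_eq_nat (isCharacter_restrict N hc) (isCharacter_of_isIrr hφ)
  obtain ⟨n, hn⟩ := exists_classInner_eq_nat (isCharacter_restrict N hc) a1
  have b : classInner (indFun N (fun _ => 1) * χ) χ' ≠ 0 := by
    rw [← indFun_res N (isClassFunction_of_isIrr hχ), classInner_indFun_left N _ (isClassFunction_of_isIrr hχ'),
      a2, classInner_add_right, hm, hn, ← Nat.cast_add, Nat.cast_ne_zero]
    have : m ≠ 0 := fun e => o (by rw [hm, e, Nat.cast_zero])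
    omega
  obtain ⟨ξ, c1, c2, c3⟩ := exists_constituent_of_mul (isCharacter_indFun N isCharacter_one) b
  have := deg_le_of_inner_ne_zero (isCharacter_mul (isCharacter_of_isIrr c1) hc) hχ' c3
  rwa [deg_mul (isCharacter_of_isIrr c1) hc, (deg_eq_one_iff_commutator_le c1).2 (hN.trans
    ((le_cker_iff (isCharacter_of_isIrr c1)).2 ((classInner_indFun_one_ne_zero_iff N c1).1 c2))), one_mul] at this

theorem exists_not_dvd (hp : p.Prime) {D M : Subgroup G} [D.Normal] (hD : IsPGroup p D) (h : M ⊔ D = ⊤)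
    (hM : M ≠ ⊤) : ∃ χ, IsIrrCharacter G χ ∧ ¬ p ∣ charDegree χ ∧ ¬ D ≤ cker χ := by
  haveI := Fact.mk hp
  have hc := isCharacter_indFun M (isCharacter_one (G := M))
  have i1 : classInner (indFun M (fun _ => 1)) (fun _ => 1) = 1 := by
    rw [classInner_indFun_left M _ (isClassFunction_const 1), classInner_one_one]
  obtain ⟨Ξ, a1, a2⟩ := exists_eq_add_of_inner_ne_zero hc isIrr_one (i1.trans_ne one_ne_zero)
  have e := deg_ind M (isCharacter_one (G := M))
  rw [a2, deg_add isCharacter_one a1, deg_one, deg_one, mul_one] at e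
  have d : p ∣ M.index := by
    obtain ⟨k, hk⟩ := hD.exists_card_eq
    have : M.index ∣ p ^ k := by
      rw [← relIndex_top_right, ← h, relIndex_sup_of_normal, ← hk]; exact relIndex_dvd_card M D
    obtain ⟨j, -, hj⟩ := (Nat.dvd_prime_pow hp).1 this
    rcases j with _ | j
    · exact absurd (index_eq_one.1 hj) hM
    · exact hj ▸ dvd_pow_self p j.succ_ne_zero
  by_contra c
  push Not at c
  refine hp.one_lt.ne' (Nat.dvd_one.1 ((Nat.dvd_add_left (dvd_deg_of_forall a1 fun ψ h1 h2 => ?_)).1 (e ▸ d)))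
  by_contra n
  have n1 : ψ ≠ fun _ => 1 := fun e => h2 (by
    rw [a2, classInner_add_left, classInner_one_one, add_eq_left] at i1
    rw [e, i1])
  have i2 : classInner (indFun M (fun _ => 1)) ψ ≠ 0 := by
    rwa [a2, classInner_add_left, classInner_irr_of_ne isIrr_one h1 n1.symm, zero_add]
  rw [classInner_indFun_left M _ (isClassFunction_of_isIrr h1)] at i2
  have t : M ⊔ cker ψ = ⊤ := top_le_iff.1 (h ▸ sup_le_sup_left (c ψ h1 n) M)
  have i3 := irr_eq_of_classInner_ne_zero isIrr_one (isIrr_res_of_sup_cker h1 M t) i2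
  refine n1 (irr_eq_one_of_cker_eq_top h1 (top_le_iff.1 (t ▸ sup_le (fun x hx => ?_) le_rfl)))
  exact (mem_cker (isCharacter_of_isIrr h1)).2 ((congrFun i3 ⟨x, hx⟩).symm.trans (congrFun i3 1))

/-- An invariant linear character kills commutators. -/
theorem comm_le_cker {K X : Subgroup G} [K.Normal] {μ : K → ℂ} (hμ : IsIrrCharacter K μ) (h1 : charDegree μ = 1)
    (h : X ≤ inertia K μ) : (⁅X, K⁆ : Subgroup G).subgroupOf K ≤ cker μ := by
  have hc := isCharacter_of_isIrr hμ
  rw [← map_le_map_iff_of_injective K.subtype_injective, map_subgroupOf_eq_of_le (commutator_le_right X K),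
    commutator_le]
  intro g hg n hn
  refine ⟨⟨g * n * g⁻¹, Normal.conj_mem inferInstance _ hn g⟩ * ⟨n, hn⟩⁻¹, ?_, rfl⟩
  obtain ⟨l, rfl⟩ := exists_unitsHom_of_one_eq_one hc ((deg_eq_one_iff hc).1 h1)
  have := (mem_inertia' K).1 (h hg) ⟨n, hn⟩
  rw [SetLike.mem_coe, mem_cker hc, map_mul, map_inv, Units.ext this, mul_inv_cancel, map_one]

theorem le_of_not_dvd {q k : ℕ} (hq : q.Prime) {F X T : Subgroup G} [X.Normal] (h : F ≤ T)
    (hX : F.relIndex X = q ^ k) (hT : ¬ q ∣ T.index) : X ≤ T := by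
  rw [← relIndex_eq_one]
  refine Nat.eq_one_of_dvd_coprimes ((hq.coprime_iff_not_dvd.2 hT).pow_left k) (hX ▸ relIndex_dvd_of_le_left X h) ?_
  rw [← relIndex_sup_of_normal]
  exact relIndex_dvd_index_of_le le_sup_left

end CfsgLib.Garr
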