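import Mathlib
import Cfsg.Agent.Lib.Garr.Tools
import Cfsg.Agent.Lib.RelDeg.Graph
import Cfsg.Agent.Lib.Coprime.Abelian

/-! The quotient by the Fitting subgroup in the theorem on four character degrees. -/

set_option autoImplicit false

namespace CfsgLib.Garr

open Cfsg CfsgLib.Char CfsgLib.CharDeep CfsgLib.ChDeg CfsgLib.RelDeg CfsgLib.Core Subgroup MulAction
open scoped commutatorElement

attribute [local instance] Fintype.ofFinite

variable {G : Type*} [Group G] [Finite G] {p : ℕ}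

theorem not_dvd_core {F R : Subgroup G} [F.Normal] [R.Normal] (hR : ⁅⁅R, R⁆, R⁆ ≤ F) (hp : p.Prime) :
    ¬ p ∣ ((pCore p (G ⧸ F)).comap (QuotientGroup.mk' F)).relIndex R := by
  haveI := Fact.mk hp
  haveI : (R.map (QuotientGroup.mk' F)).Normal := Normal.map inferInstance _ (QuotientGroup.mk'_surjective F)
  haveI : Group.IsNilpotent (R.map (QuotientGroup.mk' F)) := isNilpotent_of_commutator_commutator_eq_bot (by
    rwa [← map_commutator, ← map_commutator, Subgroup.map_eq_bot_iff, QuotientGroup.ker_mk'])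
  rw [relIndex_comap, relIndex, ← pCore_eq_subgroupOf_of_normal]
  exact not_dvd_index_pCore_of_isNilpotent p

theorem not_dvd_rel {R : Subgroup G} [R.Normal] (hR : ⁅⁅R, R⁆, R⁆ ≤ pCore p G) (hp : p.Prime) :
    ¬ p ∣ (pCore p G).relIndex R := by
  have := not_dvd_core hR hp
  rwa [comap_mk'_pCore (isPGroup_pCore p G)] at this

theorem exists_syl {F R : Subgroup G} [F.Normal] [R.Normal] (h : F ≤ R) (hR : ⁅⁅R, R⁆, R⁆ ≤ F) (hp : p.Prime) :
    ∃ X : Subgroup G, X.Normal ∧ F ≤ X ∧ X ≤ R ∧ (∃ k, F.relIndex X = p ^ k) ∧ ¬ p ∣ X.relIndex R := by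
  haveI := Fact.mk hp
  refine ⟨(pCore p (G ⧸ F)).comap (QuotientGroup.mk' F) ⊓ R, inferInstance,
    le_inf ((QuotientGroup.ker_mk' F).ge.trans (ker_le_comap _ _)) h, inf_le_right, ?_,
    by rw [inf_relIndex_right]; exact not_dvd_core hR hp⟩
  nth_rw 1 [← QuotientGroup.ker_mk' F]
  rw [relIndex_ker]
  exact ((isPGroup_pCore p _).to_le (map_le_iff_le_comap.2 inf_le_left)).exists_card_eq

theorem comm_le_of_index_le {a : ℕ} (hd : ∀ χ, IsIrrCharacter G χ → charDegree χ = 1 ∨ a ≤ charDegree χ)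
    {T : Subgroup G} (h : T.index ≤ a) : _root_.commutator G ≤ T := by
  by_contra c
  obtain ⟨ψ, h1, h2, -, h3⟩ := exists_small T _ c
  exact (hd ψ h1).elim (fun e => h2 ((deg_eq_one_iff_commutator_le h1).1 e)) fun e => by omega

/-- A linear character of a complemented normal subgroup extends to its stabilizer. -/
theorem exists_lin_ext {N H : Subgroup G} [N.Normal] (hc : IsComplement' N H) (l : Lin N) :
    ∃ μ : inertia N (co l) →* ℂˣ, ∀ x (hx : x.1 ∈ N), (μ x : ℂ) = co l ⟨x, hx⟩ := by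
  let e := hc.symm.QuotientMulEquiv
  let π : G →* H := e.toMonoidHom.comp (QuotientGroup.mk' N)
  have h1 : ∀ h : H, e.symm h = ((h : G) : G ⧸ N) := fun _ => rfl
  have h3 : ∀ g, g * (π g : G)⁻¹ ∈ N := fun g => by
    rw [← QuotientGroup.eq_one_iff, QuotientGroup.mk_mul, QuotientGroup.mk_inv, ← h1]
    simp [π]
  have hNI := le_inertia N (isClassFunction_of_isIrr (isIrr_co l))
  rw [inertia_co] at hNI ⊢
  refine ⟨MonoidHom.mk' (fun x => l.hom ⟨_, h3 x⟩) fun x y => ?_, fun x hx => ?_⟩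
  · have h4 : (π x : G)⁻¹ • l = l := ((stabilizer G l).mul_mem_cancel_left x.2).1 (hNI (h3 x))
    have h5 := smul_hom_apply (π x : G)⁻¹ l ⟨_, h3 y⟩
    rw [h4] at h5
    rw [h5, ← map_mul]
    congr 1
    ext
    simp [mul_assoc]
  · exact congrArg (fun x => (l.hom x : ℂ)) (Subtype.ext (by simp [π, (QuotientGroup.eq_one_iff _).2 hx]))

theorem metab (hp : p.Prime) (h0 : pCore p G = ⊥) (h2 : derivedSeries G 2 = ⊥) {y z : ℕ}
    (hd : ∀ χ, IsIrrCharacter G χ → charDegree χ = 1 ∨ charDegree χ = y ∨ charDegree χ = z)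
    (hy : p ∣ y) (hz : ¬ p ∣ z) (hyz : y < z) {χ : G → ℂ} (hχ : IsIrrCharacter G χ) (e : charDegree χ = y) :
    (∀ χ, IsIrrCharacter G χ → charDegree χ = 1 ∨ charDegree χ = y) ∧
      (∀ q, q.Prime → q ∣ Nat.card (_root_.commutator G) → ¬ q ∣ y) ∧
      ∃ A : Subgroup G, A.Normal ∧ ⁅A, A⁆ = ⊥ ∧ A.index = y ∧ _root_.commutator G ≤ A := by
  haveI := Fact.mk hp
  set H := _root_.commutator G
  replace h2 : ⁅H, H⁆ = ⊥ := h2
  haveI : IsMulCommutative H := le_centralizer_iff_isMulCommutative.1 (commutator_eq_bot_iff_le_centralizer.1 h2)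
  have hH := not_dvd_rel (R := H) (p := p) (by rw [h2, commutator_bot_left]; exact bot_le) hp
  rw [h0, relIndex_bot_left] at hH
  obtain ⟨P⟩ : Nonempty (Sylow p G) := inferInstance
  obtain ⟨k, hk⟩ := P.2.exists_card_eq
  have cop : (Nat.card P).Coprime (Nat.card H) := hk ▸ (hp.coprime_iff_not_dvd.2 hH).pow_left k
  have nH : ∀ U : Subgroup G, U ≤ normalizer (H : Set G) := fun U => le_normalizer_of_normal
  set K := ⁅H, (P : Subgroup G)⁆
  set B := centralizer ((P : Subgroup G) : Set G)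
  have KH : K ≤ H := commutator_le_left _ _
  have NB : normalizer ((P : Subgroup G) : Set G) ≤ B := commutator_eq_bot_iff_le_centralizer.1
    (le_bot_iff.1 (disjoint_of_coprime_natCard cop (le_normalizer_iff_commutator_le_right.1 le_rfl)
      (commutator_mono le_top le_top)))
  haveI : (H ⊔ P : Subgroup G).Normal := Normal.of_commutator_le G le_sup_left
  have t : B ⊔ K = ⊤ := by
    rw [eq_top_iff, ← P.normalizer_sup_eq_top' (N := H ⊔ P) le_sup_right]
    refine sup_le (NB.trans le_sup_left) (sup_le ?_ (le_normalizer.trans (NB.trans le_sup_left)))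
    rw [← (Coprime.fitting_decomposition (nH _) cop).2]
    exact sup_le_sup_right inf_le_right _
  haveI : K.Normal := normalizer_eq_top_iff.1 (top_le_iff.1 (t ▸ sup_le ((le_inf (nH _)
    (centralizer_le_normalizer _)).trans (normalizer_inf_le_normalizer_commutator _ _)) le_normalizer))
  have hc : IsComplement' K B := isComplement'_of_disjoint_and_mul_eq_univ
    (disjoint_iff.2 (Coprime.centralizer_inf_commutator_eq_bot (nH _) cop)).symm
    (by rw [← normal_mul, sup_comm, t, coe_top])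
  have k1 : ∀ l : Lin K, l ≠ 1 → p ∣ (inertia K (co l)).index := fun l hl => by
    by_contra c
    haveI : (inertia K (co l)).Normal := Normal.of_commutator_le G fun g hg => (mem_inertia' K).2 fun n =>
      congrArg _ (Subtype.ext (mul_inv_eq_of_eq_mul (setLike_mul_comm hg (KH n.2))))
    have := comm_le_cker (isIrr_co l) (deg_co l) (SolvStruct.sylow_le_of_normal_of_not_dvd_index P.2 c)
    rw [commutator_comm, Coprime.commutator_commutator_eq (nH _) cop, subgroupOf_self] at this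
    exact co_ne_one hl (irr_eq_one_of_cker_eq_top (isIrr_co l) (top_le_iff.1 this))
  have k2 : ∀ l : Lin K, l ≠ 1 → ∀ β, IsIrrCharacter (inertia K (co l)) β → K.subgroupOf _ ≤ cker β →
      (inertia K (co l)).index * charDegree β = y := fun l hl β hβ hK => by
    obtain ⟨μ, hμ⟩ := exists_lin_ext hc l
    have hI := le_inertia K (isClassFunction_of_isIrr (isIrr_co l))
    have b1 := isIrr_linear_mul μ hβ
    have b2 := isIrr_indFun_inertia K _ hI (isIrr_co l) rfl b1 (by
      rw [show (fun n : K => μ ⟨n, hI n.2⟩ * β ⟨n, hI n.2⟩) = β 1 • co l from funext fun n => by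
        rw [hμ _ n.2, (mem_cker (isCharacter_of_isIrr hβ)).1 (hK n.2), mul_comm]; rfl,
        classInner_smul_left, classInner_irr_self (isIrr_co l), mul_one]
      exact irr_one_ne_zero hβ)
    have b3 := hd _ b2
    rw [deg_ind _ (isCharacter_of_isIrr b1), deg_congr (ψ := β) (by simp)] at b3
    have b4 := (k1 l hl).mul_right (charDegree β)
    exact b3.elim (fun c => absurd (Nat.dvd_one.1 (c ▸ b4)) hp.ne_one) fun c => c.resolve_right fun c => hz (c ▸ b4)
  have k3 : ∀ l : Lin K, l ≠ 1 → (inertia K (co l)).index = y := fun l hl => by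
    simpa [deg_one] using k2 l hl _ isIrr_one (by rw [cker_one]; exact le_top)
  have k4 : ∀ φ, IsIrrCharacter G φ → ¬ K ≤ cker φ → ∃ l : Lin K, l ≠ 1 ∧ Ov K φ (co l) := fun φ hφ c => by
    obtain ⟨θ, t1, t2, t3⟩ := exists_irr_under_ne_one K hφ c
    obtain ⟨l, rfl⟩ := exists_co (isCharacter_of_isIrr t1) (Nat.dvd_one.1 (index_top (G := K) ▸
      deg_dvd_index_of_comm t1 ⊤ fun a _ b _ => Subtype.ext (setLike_mul_comm (KH a.2) (KH b.2))))
    exact ⟨l, fun c => t2 (c ▸ co_one), t3⟩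
  have k5 : ∀ φ, IsIrrCharacter G φ → K ≤ cker φ → charDegree φ ≠ y := fun φ hφ c e => by
    have := deg_dvd_index_center (isIrr_res_of_sup_cker hφ B (top_le_iff.1 (t ▸ sup_le_sup_left c B)))
    rw [deg_res, e] at this
    refine P.not_dvd_index ((hy.trans this).trans ((index_dvd_of_le (H := (P : Subgroup G).subgroupOf B)
      fun x hx => mem_center_iff.2 fun g => Subtype.ext (g.2 x hx).symm).trans
        (relIndex_dvd_index_of_le (le_normalizer.trans NB))))
  obtain ⟨l, hl, -⟩ := k4 χ hχ fun c => k5 χ hχ c e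
  have k6 : ∀ φ, IsIrrCharacter G φ → K ≤ cker φ → charDegree φ = 1 := fun φ hφ c => by
    haveI : (inertia K (co l)).Normal := Normal.of_commutator_le G fun g hg => (mem_inertia' K).2 fun n =>
      congrArg _ (Subtype.ext (mul_inv_eq_of_eq_mul (setLike_mul_comm hg (KH n.2))))
    obtain ⟨β, b1, b2⟩ := exists_irr_under (inertia K (co l)) hφ
    have := deg_dvd_index_mul _ hφ b1 b2
    rw [k2 l hl β b1 ((Ov.cker_iff (le_inertia K (isClassFunction_of_isIrr (isIrr_co l))) hφ b1 b2).2 c)] at this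
    have := Nat.le_of_dvd (e ▸ deg_pos hχ) this
    have := hd φ hφ
    have := k5 φ hφ c
    omega
  have HK : H ≤ K := fun g hg => by
    by_contra c
    obtain ⟨φ, f1, f2, f3⟩ := exists_irr_le_cker_not_mem K c
    exact f3 ((deg_eq_one_iff_commutator_le f1).1 (k6 φ f1 f2) hg)
  have r1 : ∀ χ, IsIrrCharacter G χ → charDegree χ = 1 ∨ charDegree χ = y := fun φ hφ => by
    refine or_iff_not_imp_left.2 fun c => ((hd φ hφ).resolve_left c).resolve_right fun e => ?_
    obtain ⟨l, hl, o⟩ := k4 φ hφ fun d => c (k6 φ hφ d)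
    exact hz (e ▸ (k1 l hl).trans (index_inertia_dvd K hφ (isIrr_co l) o))
  have r2 : ∀ q, q.Prime → q ∣ Nat.card H → ¬ q ∣ y := fun q hq h => by
    obtain ⟨l, hl, -, h3⟩ := exists_lam (N := K) hq (by
      rwa [le_antisymm KH HK, h2, relIndex_bot_left])
    rwa [← inertia_co, k3 l hl] at h3
  have y1 : y ≠ 1 := fun c => hp.ne_one (Nat.dvd_one.1 (c ▸ hy))
  refine ⟨r1, r2, ?_⟩
  rcases two_deg r1 ⟨χ, hχ, e⟩ y1 with ⟨A, a1, a2, a3⟩ | ⟨r, j, hr, a0, Q, A, a1, a2, a3, a4, -, a5, -⟩
  · refine ⟨A, a1, commutator_eq_bot_iff_le_centralizer.2 fun x hx g hg => a2 g hg x hx, a3,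
      relIndex_eq_one.1 (by_contra fun c => ?_)⟩
    exact r2 _ (Nat.minFac_prime c) ((Nat.minFac_dvd _).trans (relIndex_dvd_card A H))
      ((Nat.minFac_dvd _).trans (a3 ▸ relIndex_dvd_index_of_normal A H))
  · obtain rfl := (Nat.prime_dvd_prime_iff_eq hp hr).1 (hp.dvd_of_dvd_pow (a0 ▸ hy))
    rw [le_bot_iff.1 ((le_pCore a3).trans_eq h0), bot_sup_eq] at a5
    have := deg_dvd_index_of_comm hχ A a4
    rw [a5, index_top, e] at this
    exact absurd (Nat.dvd_one.1 this) y1

theorem not_dvd_of_mid (hp : p.Prime) {a b : ℕ}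
    (hd : ∀ χ, IsIrrCharacter G χ → charDegree χ = 1 ∨ charDegree χ = a ∨ charDegree χ = b) (hab : a < b)
    {X : Subgroup G} [X.Normal] (hX : IsPGroup p X) (h2 : X ≤ derivedSeries G 2) {χ : G → ℂ}
    (hχ : IsIrrCharacter G χ) (e : charDegree χ = a) (hk : ¬ X ≤ cker χ) : ¬ p ∣ b := fun hb => by
  haveI := Fact.mk hp
  have tl : ∀ T : Subgroup G, T.index ≤ a → _root_.commutator G ≤ T := fun T =>
    comm_le_of_index_le fun ψ hψ => by have := hd ψ hψ; omega
  have a0 : 0 < a := e ▸ deg_pos hχ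
  have ha : p ∣ a := by
    by_contra ha
    have h : X ≤ _root_.commutator G := h2.trans (commutator_le_left _ _)
    obtain ⟨ν, n1, n2, n3⟩ := exists_irr_under_ne_one X hχ hk
    have nc := isCharacter_of_isIrr n1
    obtain ⟨l, rfl⟩ := exists_co nc
      (deg_eq_one_of_isPGroup hX n1 fun c => ha (e ▸ c.trans (deg_dvd_of_over X hχ n1 n3)))
    obtain ⟨ξ, x1, x2, x3⟩ := exists_irr_between' h (isClassFunction_of_isIrr hχ) n3
    have x4 := clifford_invariant_le X _ h x1 n1 (tl _ (Nat.le_of_dvd a0 (e ▸ index_inertia_dvd X hχ n1 n3))) x3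
    obtain ⟨k, hk⟩ := hX.exists_card_eq
    obtain ⟨μ, hμ⟩ := exists_linear_ext_of_coprime (inclusion h) x1 l.hom (m := Nat.card X) (fun x => by
        have := congrFun x4 1
        simp only [Pi.smul_apply, co_apply_one, smul_eq_mul, mul_one] at this
        exact (congrFun x4 x).trans (by rw [← this]; rfl))
      (fun x => by rw [← map_pow, pow_card_eq_one', map_one]) Nat.card_pos.ne'
      (hk ▸ ((hp.coprime_iff_not_dvd.2 fun c => ha (e ▸ c.trans (deg_dvd_of_over _ hχ x1 x2))).symm.pow_right k))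
    refine n2 (funext fun x => ?_)
    obtain ⟨w, hw, e⟩ := (map_subtype_commutator (_root_.commutator G)).ge (h2 x.2)
    rw [co, ← hμ, show inclusion h x = w from Subtype.ext e.symm,
      MonoidHom.mem_ker.1 (Abelianization.commutator_subset_ker μ hw), Units.val_one]
  obtain ⟨M, _, m1, m2, m3⟩ := exists_normal_pi_complement (G := G) {p} (by simpa) (by
    intro r hr ψ hψ c
    rw [Finset.mem_singleton.1 hr]
    rcases hd ψ hψ with h | h | h <;> simp_all)
  have m4 : ∀ d d', (∀ χ, IsIrrCharacter G χ → charDegree χ = 1 ∨ charDegree χ = d ∨ charDegree χ = d') →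
      d ∣ M.index := fun d d' h => by
    by_contra c
    have := (derivedSeries_quotient_eq_bot_iff M 2).1 (derived_two_of_two_deg (m := d') fun ψ hψ => by
      have h1 := h _ (isIrr_infl M hψ)
      rw [deg_infl] at h1
      exact h1.imp_right fun h1 => h1.resolve_left fun h1 => c (h1 ▸ deg_dvd_card hψ))
    obtain ⟨k, hk'⟩ := hX.exists_card_eq
    exact hk ((disjoint_of_coprime_natCard (hk' ▸ (hp.coprime_iff_not_dvd.2 (m1 p (by simp))).pow_left k)).eq_bot_of_le
      (h2.trans this) ▸ bot_le)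
  obtain ⟨T, l, rfl⟩ := monomial_of_comm_of_nilpotent M (comm_of_forall_deg_eq_one' fun θ hθ => by
    by_contra c
    obtain ⟨ψ, s1, j, -, s2⟩ := exists_deg_dvd_of_normal M hθ
    have s3 : charDegree ψ ∣ M.index := by
      rcases hd ψ s1 with h | h | h <;> rw [h]
      exacts [one_dvd _, m4 a b hd, m4 b a fun χ hχ => by have := hd χ hχ; omega]
    exact m1 _ (m2 _ (Nat.minFac_prime c) ((Nat.minFac_dvd _).trans ((Dvd.intro_left j s2.symm).trans s3)))
      ((Nat.minFac_dvd _).trans (deg_dvd_card hθ))) m3 χ hχ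
  have hl := isCharacter_of_isIrr (isIrr_unitsHom l)
  rw [deg_ind T hl, (deg_eq_one_iff hl).2 (by simp), mul_one] at e
  exact hk (h2.trans (commutator_le_cker_indFun T l _ (tl T e.le)))

end CfsgLib.Garr
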