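import Mathlib
import Cfsg.Agent.Lib.Garr.Meta

/-! Four character degrees: the case of a metabelian quotient by the Fitting subgroup. -/

set_option autoImplicit false

namespace CfsgLib.Garr

open Cfsg CfsgLib.Char CfsgLib.CharDeep CfsgLib.ChDeg CfsgLib.Core Subgroup
open scoped commutatorElement

attribute [local instance] Fintype.ofFinite

variable {G : Type*} [Group G] [Finite G] {p : ℕ}

theorem quot_deg (F : Subgroup G) [F.Normal] {S : ℕ → Prop}
    (hd : ∀ χ, IsIrrCharacter G χ → F ≤ cker χ → S (charDegree χ)) (ψ : G ⧸ F → ℂ)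
    (hψ : IsIrrCharacter (G ⧸ F) ψ) : S (charDegree ψ) :=
  deg_infl F ψ ▸ hd _ (isIrr_infl F hψ) (le_cker_infl F (isCharacter_of_isIrr hψ))

theorem exists_small' {F T D : Subgroup G} [F.Normal] (h : F ≤ T) (hD : ¬ D ≤ T) :
    ∃ ψ, IsIrrCharacter G ψ ∧ F ≤ cker ψ ∧ ¬ D ≤ cker ψ ∧ charDegree ψ < T.index := by
  obtain ⟨ψ, h1, h2, h3, h4⟩ := exists_small T D hD
  exact ⟨ψ, h1, (normal_le_normalCore.2 h).trans h3, h2, h4⟩

theorem Ov.comm_le {R : Subgroup G} [R.Normal] {χ : G → ℂ} (hχ : IsIrrCharacter G χ) {ρ : R → ℂ}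
    (hρ : IsIrrCharacter R ρ) (o : Ov R χ ρ) (h : charDegree ρ = 1) : ⁅R, R⁆ ≤ cker χ :=
  (Ov.cker_iff (commutator_le_right R R) hχ hρ o).1
    (comm_le_cker hρ h (le_inertia R (isClassFunction_of_isIrr hρ)))

omit [Finite G] in
theorem comm_sup_le {K T F : Subgroup G} [K.Normal] [F.Normal] (hT : ⁅T, T⁆ ≤ K) (hF : F ≤ K) :
    ⁅T ⊔ F, T ⊔ F⁆ ≤ K :=
  commutator_sup_le hT fun _ hz x => hF (commutator_le_left F ⊤ (commutator_mem_commutator hz (mem_top x)))

theorem exists_not_le {V : Subgroup G} (h : V ≠ ⊥) : ∃ χ, IsIrrCharacter G χ ∧ ¬ V ≤ cker χ := by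
  by_contra c
  push Not at c
  exact h (eq_bot_iff.2 fun g hg => eq_one_of_forall_mem_cker fun ψ hψ => c ψ hψ hg)

theorem relIndex_dvd_index_normal (T N : Subgroup G) [N.Normal] : T.relIndex N ∣ T.index := by
  rw [← relIndex_sup_of_normal]
  exact relIndex_dvd_index_of_le le_sup_left

theorem metab' (hp : p.Prime) (h2 : derivedSeries G 2 ≤ pCore p G) {y z : ℕ}
    (hd : ∀ χ, IsIrrCharacter G χ → pCore p G ≤ cker χ → charDegree χ = 1 ∨ charDegree χ = y ∨ charDegree χ = z)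
    (hy : p ∣ y) (hz : ¬ p ∣ z) (hyz : y < z) {χ : G → ℂ} (hχ : IsIrrCharacter G χ) (hk : pCore p G ≤ cker χ)
    (e : charDegree χ = y) :
    (∀ χ, IsIrrCharacter G χ → pCore p G ≤ cker χ → charDegree χ = 1 ∨ charDegree χ = y) ∧
      (∀ q, q.Prime → q ∣ (pCore p G).relIndex (_root_.commutator G ⊔ pCore p G) → ¬ q ∣ y) ∧
      ∃ A : Subgroup G, A.Normal ∧ ⁅A, A⁆ ≤ pCore p G ∧ A.index = y ∧ _root_.commutator G ⊔ pCore p G ≤ A := by
  have s := QuotientGroup.mk'_surjective (pCore p G)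
  obtain ⟨r1, r2, A, a1, a2, a3, a4⟩ := metab hp (pCore_quotient_pCore p G)
    ((derivedSeries_quotient_eq_bot_iff _ 2).2 h2) (quot_deg _ (S := fun n => n = 1 ∨ n = y ∨ n = z) hd) hy hz hyz
    (isIrr_defl hχ hk) ((deg_defl (isCharacter_of_isIrr hχ) hk).trans e)
  have m : (_root_.commutator G).map _ = _root_.commutator _ := map_derivedSeries_eq s 1
  refine ⟨fun ψ h1 h3 => deg_defl (isCharacter_of_isIrr h1) h3 ▸ r1 _ (isIrr_defl h1 h3), fun q hq h => r2 q hq ?_,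
    A.comap (QuotientGroup.mk' _), inferInstance, ?_, (index_comap_of_surjective A s).trans a3,
    sup_le (map_le_iff_le_comap.1 (m.trans_le a4)) ((QuotientGroup.ker_mk' _).ge.trans (ker_le_comap _ _))⟩
  · rw [relIndex_sup_right] at h
    rwa [← m, ← relIndex_ker, QuotientGroup.ker_mk']
  · refine le_trans ?_ (QuotientGroup.ker_mk' _).le
    rw [← Subgroup.map_eq_bot_iff, map_commutator, map_comap_eq_self_of_surjective s, a2]

theorem case_one (hp : p.Prime) (h0 : pPrimeCore p G = ⊥) {a b c : ℕ}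
    (hd : ∀ χ, IsIrrCharacter G χ → charDegree χ = 1 ∨ charDegree χ = a ∨ charDegree χ = b ∨ charDegree χ = c)
    (h2 : derivedSeries G 2 ≤ pCore p G) : derivedSeries G 4 = ⊥ := by
  haveI := Fact.mk hp
  by_contra hV
  have hF := isPGroup_pCore p G
  have an := derivedSeries_antitone G
  obtain ⟨χ4, i4, k4⟩ := exists_not_le hV
  obtain ⟨χ3, i3, k3, v3⟩ := exists_val_lt hp (X := derivedSeries G 3) (hF.to_le ((an (by omega)).trans h2)) i4 k4
  obtain ⟨χ2, i2, k2, v2⟩ := exists_val_lt hp (X := derivedSeries G 2) (hF.to_le h2) i3 k3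
  obtain ⟨x, ex⟩ : ∃ x, charDegree χ4 = x := ⟨_, rfl⟩
  obtain ⟨y, ey⟩ : ∃ x, charDegree χ3 = x := ⟨_, rfl⟩
  obtain ⟨z, ez⟩ : ∃ x, charDegree χ2 = x := ⟨_, rfl⟩
  rw [ex, ey] at v3
  rw [ey, ez] at v2
  have v1 : (1 : ℕ).factorization p = 0 := by simp
  replace hd' : ∀ χ, IsIrrCharacter G χ →
      charDegree χ = 1 ∨ charDegree χ = x ∨ charDegree χ = y ∨ charDegree χ = z := fun χ hχ => by
    have n1 : z ≠ 1 := fun e => k2 ((an (by omega : 1 ≤ 2)).trans ((deg_eq_one_iff_commutator_le i2).1 (ez.trans e)))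
    have n2 : x ≠ 1 ∧ y ≠ 1 ∧ x ≠ y ∧ x ≠ z ∧ y ≠ z := by
      refine ⟨?_, ?_, ?_, ?_, ?_⟩ <;> rintro rfl <;> omega
    have := hd χ hχ
    have := hd _ i4
    have := hd _ i3
    have := hd _ i2
    omega
  have px : p ∣ x := Nat.dvd_of_factorization_pos (by omega)
  have py : p ∣ y := Nat.dvd_of_factorization_pos (by omega)
  have pz : ¬ p ∣ z := fun pz => by
    obtain ⟨M, _, m1, -, m3⟩ := exists_normal_pi_complement (G := G) {p} (by simpa) (by
      intro r hr ψ hψ c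
      rw [Finset.mem_singleton.1 hr]
      rcases hd' ψ hψ with h | h | h | h <;> simp_all)
    have m4 : M = ⊥ := le_bot_iff.1 ((le_pPrimeCore (hp.coprime_iff_not_dvd.2 (m1 p (by simp))).symm).trans_eq h0)
    exact hV (le_bot_iff.1 ((an Finset.card_le_four).trans_eq (taketa_card (monomial_of_comm_of_nilpotent M
      (fun u hu v _ => by simp [mem_bot.1 (m4.le hu)]) m3) {1, a, b, c} fun χ hχ => by simpa using hd χ hχ)))
  have vz := Nat.factorization_eq_zero_of_not_dvd pz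
  set F := pCore p G
  set N := _root_.commutator G ⊔ F
  have hN : ⁅N, N⁆ ≤ F := comm_sup_le h2 le_rfl
  have FN : F ≤ N := le_sup_right
  have pN : ¬ p ∣ F.relIndex N := not_dvd_rel ((commutator_le_left _ _).trans hN) hp
  have tl : ∀ θ, IsIrrCharacter F θ → ¬ N ≤ inertia F θ →
      ∃ ψ, IsIrrCharacter G ψ ∧ F ≤ cker ψ ∧ charDegree ψ ≠ 1 ∧ charDegree ψ < (inertia F θ).index := fun θ hθ h => by
    obtain ⟨ψ, h1, h2, h3, h4⟩ := exists_small' (le_inertia F (isClassFunction_of_isIrr hθ)) h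
    exact ⟨ψ, h1, h2, fun e => h3 (sup_le ((deg_eq_one_iff_commutator_le h1).1 e) h2), h4⟩
  have il : ∀ {θ χ}, IsIrrCharacter F θ → IsIrrCharacter G χ → Ov F χ θ → (inertia F θ).index ≤ charDegree χ :=
    fun hθ hχ o => Nat.le_of_dvd (deg_pos hχ) (index_inertia_dvd F hχ hθ o)
  obtain ⟨μ, m1, m2⟩ := exists_irr_under F i2
  obtain ⟨ψ0, s1, s2, s3, s4⟩ := tl μ m1 fun h => by
    obtain ⟨ρ, r1, r2, r3⟩ := exists_under_eq hp hF FN pN hN m1 h i2 m2
    exact k2 ((commutator_mono le_sup_left le_sup_left).trans (r2.comm_le i2 r1 (r3.trans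
      (deg_eq_one_of_isPGroup hF m1 fun c => pz (ez ▸ c.trans (deg_dvd_of_over F i2 m1 m2))))))
  replace s4 := s4.trans_le ((il m1 i2 m2).trans_eq ez)
  obtain ⟨χ0, i0, k0, e0⟩ : ∃ χ, IsIrrCharacter G χ ∧ ¬ derivedSeries G 3 ≤ cker χ ∧ charDegree χ = min x y :=
    (le_total x y).elim (fun h => ⟨χ4, i4, fun c => k4 ((an (by omega)).trans c), by omega⟩)
      fun h => ⟨χ3, i3, k3, by omega⟩
  obtain ⟨θ0, t1, t2⟩ := exists_irr_under F i0
  have t3 : p ∣ charDegree θ0 := by_contra fun c =>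
    k0 ((commutator_mono h2 h2).trans (Ov.comm_le i0 t1 t2 (deg_eq_one_of_isPGroup hF t1 c)))
  have t4 : N ≤ inertia F θ0 := by_contra fun c => by
    obtain ⟨ψ, h1, -, h3, h4⟩ := tl θ0 t1 c
    have := il t1 i0 t2
    have := hd' ψ h1
    have := hd' ψ0 s1
    omega
  have ab : ∀ {χ χ' φ}, IsIrrCharacter G χ → IsIrrCharacter G χ' → IsIrrCharacter N φ → Ov N χ φ → Ov N χ' φ →
      charDegree χ = charDegree χ' := fun h1 h2 h3 h4 h5 =>
    le_antisymm (deg_le_of_ov le_sup_left h2 h1 h3 h5 h4) (deg_le_of_ov le_sup_left h1 h2 h3 h4 h5)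
  have hr : ∀ χ, IsIrrCharacter G χ → F ≤ cker χ → charDegree χ = 1 ∨ charDegree χ = y ∨ charDegree χ = z :=
    fun ψ h1 h2 => (hd' ψ h1).imp_right fun h => h.resolve_left fun e => by
      obtain ⟨β, b1, b2⟩ := exists_irr_under N h1
      obtain ⟨η, χ, c1, c2, c3, -, -, c4⟩ := exists_pair hp hF FN pN t1 t3 t4 b1 ((Ov.cker_iff FN h1 b1 b2).2 h2)
      rw [ab c1 h1 b1 c3 b2, e] at c4
      rcases hd' χ c2 with h | h | h | h <;> rw [h] at c4 <;> omega
  have s5 : charDegree ψ0 = y := by have := hr ψ0 s1 s2; omega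
  obtain ⟨r1, r2, A, _, a2, a3, a4⟩ := metab' hp h2 hr py pz (s5 ▸ s4) s1 s2 s5
  have pA : ¬ p ∣ F.relIndex A := not_dvd_rel ((commutator_le_left _ _).trans a2) hp
  have y0 : y ≠ 0 := ey ▸ (deg_pos i3).ne'
  have inv : ∀ θ, IsIrrCharacter F θ → p ∣ charDegree θ → N ≤ inertia F θ →
      (∃ χ, IsIrrCharacter G χ ∧ Ov F χ θ ∧ charDegree χ = x) ∧
        x.factorization p = y.factorization p + (charDegree θ).factorization p := fun θ hθ h1 h3 => by
    obtain ⟨β, b1, b2⟩ := exists_irr_under N s1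
    have b3 := (Ov.cker_iff FN s1 b1 b2).2 s2
    obtain ⟨η, c1, c2, c3⟩ := exists_over_min hp FN pN b1 b3
    obtain ⟨χ, d1, d2, d3⟩ := exists_over_mul hp hF FN pN hθ h3 b1 b3
    obtain ⟨ρ, f1, f2, f3⟩ := exists_under_eq hp hF FN pN hN hθ h3 d1 d2
    have g1 := val_le_of_dvd (p := p) d3 (deg_pos d1).ne'
    have g2 := val_le_of_dvd (p := p) (deg_dvd_index_mul N d1 f1 f2)
      (mul_ne_zero index_ne_zero_of_finite (deg_pos f1).ne')
    have g3 := hp.factorization_pos_of_dvd (deg_pos hθ).ne' h1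
    rw [val_mul index_ne_zero_of_finite (mul_pos (deg_pos b1) (deg_pos hθ)).ne',
      val_mul (deg_pos b1).ne' (deg_pos hθ).ne'] at g1
    rw [val_mul index_ne_zero_of_finite (deg_pos f1).ne', f3, ← relIndex_mul_index a4, a3,
      val_mul (m := relIndex _ _) index_ne_zero_of_finite y0, Nat.factorization_eq_zero_of_not_dvd
        fun c => pA (c.trans (relIndex_dvd_of_le_left A FN))] at g2
    rw [ab c1 s1 b1 c2 b2, s5] at c3
    have g4 : charDegree χ = x := by rcases hd' χ d1 with h | h | h | h <;> rw [h] at g1 ⊢ <;> omega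
    exact ⟨⟨χ, d1, d2, g4⟩, by rw [g4] at g1 g2; omega⟩
  have all : ∀ θ, IsIrrCharacter F θ → p ∣ charDegree θ → N ≤ inertia F θ := fun θ hθ h1 => by_contra fun c => by
    obtain ⟨ψ, h2, h3, h4, h5⟩ := tl θ hθ c
    obtain ⟨χ, d1, d2⟩ := exists_irr_over F hθ
    have d3 := il hθ d1 d2
    have d4 := r1 ψ h2 h3
    have d5 : charDegree χ ≠ z := fun e => pz (e ▸ h1.trans (deg_dvd_of_over F d1 hθ d2))
    have d6 := hd' χ d1
    have d7 : charDegree χ = x := by omega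
    have hq := Nat.minFac_prime (mt relIndex_eq_one.1 c)
    have q1 := (Nat.minFac_dvd _).trans (relIndex_dvd_of_le_left N (le_inertia F (isClassFunction_of_isIrr hθ)))
    have q2 := ((Nat.minFac_dvd _).trans (relIndex_dvd_index_normal _ N)).trans (d7 ▸ index_inertia_dvd F d1 hθ d2)
    obtain ⟨⟨χ', f1, f2, f3⟩, -⟩ := inv θ0 t1 t3 t4
    have l : N ≤ A ⊓ inertia F θ0 := le_inf a4 t4
    haveI := Normal.of_commutator_le G (le_sup_left.trans l)
    obtain ⟨ρ, g1, g2, g3⟩ := exists_under_eq hp hF (FN.trans l) (fun c => pA (c.trans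
      (Dvd.intro _ (relIndex_mul_relIndex _ _ _ (FN.trans l) inf_le_left))))
      ((commutator_mono inf_le_left inf_le_left).trans a2) t1 inf_le_right f1 f2
    have g4 := deg_dvd_index_mul _ f1 g1 g2
    obtain ⟨k, hk⟩ := exists_deg_eq_pow hF t1
    rw [f3, g3, hk] at g4
    rcases (hq.dvd_mul).1 (q2.trans g4) with h | h
    · refine r2 _ hq q1 (((hq.dvd_mul).1 (h.trans (index_inf_dvd_mul A _))).elim (fun h => a3 ▸ h) fun h => h.trans ?_)
      exact (index_inertia_dvd F i0 t1 t2).trans (dvd_of_eq (by omega))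
    · exact pN ((Nat.prime_dvd_prime_iff_eq hq hp).1 (hq.dvd_of_dvd_pow h) ▸ q1)
  refine hV (le_bot_iff.1 ((derivedSeries_le_dS (i := 2) (j := 0) (h2.trans_eq (dS_zero F).symm) 2).trans_eq
    ((dS_eq_bot_iff F 2).2 (derived_two_of_two_deg (m := p ^ (x.factorization p - y.factorization p)) fun θ hθ => ?_))))
  refine or_iff_not_imp_left.2 fun c => ?_
  have h1 : p ∣ charDegree θ := by_contra fun d => c (deg_eq_one_of_isPGroup hF hθ d)
  obtain ⟨k, hk⟩ := exists_deg_eq_pow hF hθ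
  rw [(inv θ hθ h1 (all θ hθ h1)).2, hk, hp.factorization_pow, Finsupp.single_eq_same, Nat.add_sub_cancel_left]

end CfsgLib.Garr
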