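import Mathlib
import Cfsg.Agent.Lib.Garr.One

/-! Solvable groups with four character degrees have derived length at most four. -/

set_option autoImplicit false

namespace CfsgLib.Garr

open Cfsg CfsgLib.Char CfsgLib.CharDeep CfsgLib.ChDeg CfsgLib.Core Subgroup
open scoped commutatorElement

attribute [local instance] Fintype.ofFinite

universe u

variable {G : Type u} [Group G] [Finite G] {p : ℕ}

theorem not_dvd_of_mid' (hp : p.Prime) {a b k : ℕ} {F X : Subgroup G} [F.Normal] [X.Normal]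
    (hd : ∀ χ, IsIrrCharacter G χ → F ≤ cker χ → charDegree χ = 1 ∨ charDegree χ = a ∨ charDegree χ = b)
    (hab : a < b) (hX : F.relIndex X = p ^ k) (h2 : X ≤ derivedSeries G 2 ⊔ F) {χ : G → ℂ}
    (hχ : IsIrrCharacter G χ) (hF : F ≤ cker χ) (e : charDegree χ = a) (hk : ¬ X ≤ cker χ) : ¬ p ∣ b := by
  have s := QuotientGroup.mk'_surjective F
  have hc := isCharacter_of_isIrr hχ
  haveI : (X.map (QuotientGroup.mk' F)).Normal := Normal.map inferInstance _ s
  refine not_dvd_of_mid hp (quot_deg F (S := fun n => n = 1 ∨ n = a ∨ n = b) hd) hab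
    (X := X.map (QuotientGroup.mk' F)) (IsPGroup.of_card (n := k) ?_) ?_ (isIrr_defl hχ hF)
    ((deg_defl hc hF).trans e) fun c => hk fun x hx => (mem_cker_defl hc hF).1 (c ⟨x, hx, rfl⟩)
  · rwa [← relIndex_ker, QuotientGroup.ker_mk']
  · rw [← map_derivedSeries_eq s, Subgroup.map_le_map_iff, QuotientGroup.ker_mk']
    exact h2

theorem exists_nonlin {F R : Subgroup G} [F.Normal] [R.Normal] (h : ¬ ⁅R, R⁆ ≤ F) :
    ∃ ξ, IsIrrCharacter R ξ ∧ F.subgroupOf R ≤ cker ξ ∧ charDegree ξ ≠ 1 := by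
  obtain ⟨g, g1, g2⟩ := SetLike.not_le_iff_exists.1 h
  obtain ⟨ξ, h1, h2, h3⟩ := exists_irr_le_cker_not_mem (F.subgroupOf R) (g := ⟨g, commutator_le_right R R g1⟩) g2
  exact ⟨ξ, h1, h2, fun e => h3 (comm_le_cker h1 e (le_inertia R (isClassFunction_of_isIrr h1)) g1)⟩

/-- A character of degree prime to `p` that does not kill `⁅X, F⁆`. -/
theorem exists_moved (hp : p.Prime) (h0 : pPrimeCore p G = ⊥) {F X : Subgroup G} [F.Normal] [X.Normal]
    (hF : IsPGroup p F) {q k : ℕ} (hq : q.Prime) (hpq : q ≠ p) (hX : F.relIndex X = q ^ k) (h : ¬ X ≤ F) :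
    ∃ χ, IsIrrCharacter G χ ∧ ¬ p ∣ charDegree χ ∧ ¬ ⁅X, F⁆ ≤ cker χ := by
  haveI := Fact.mk hp
  haveI := Fact.mk hq
  haveI := hF.isNilpotent
  obtain ⟨P⟩ : Nonempty (Sylow q X) := inferInstance
  have t := P.normalizer_sup_eq_top
  have c := coprime_card_of_isPGroup hpq.symm (P.2.map X.subtype)
  have i : ((P : Subgroup X).map X.subtype).relIndex X = (P : Subgroup X).index := by
    rw [relIndex, subgroupOf, comap_map_eq_self_of_injective X.subtype_injective]
  have l := map_subtype_le (P : Subgroup X)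
  set Q := (P : Subgroup X).map X.subtype
  have e : X ≤ Q ⊔ F := relIndex_eq_one.1 (Nat.eq_one_of_dvd_coprimes
    ((hq.coprime_iff_not_dvd.2 P.not_dvd_index).pow_left k) (hX ▸ relIndex_dvd_of_le_left X le_sup_right)
    (i ▸ relIndex_dvd_of_le_left X le_sup_left))
  obtain ⟨j, hj⟩ := hF.exists_card_eq
  refine exists_not_dvd hp (hF.to_le (commutator_le_right X F)) (M := normalizer (Q : Set G))
    (top_le_iff.1 (t ▸ sup_le le_sup_left (e.trans (sup_le (le_normalizer.trans le_sup_left) ?_)))) fun n => ?_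
  · nth_rw 1 [← Coprime.commutator_sup_centralizer (K := F) (A := Q) le_normalizer_of_normal
      (hj ▸ c.pow_right j) (Or.inr inferInstance), sup_comm, commutator_comm]
    exact sup_le_sup (inf_le_right.trans (centralizer_le_normalizer _)) (commutator_mono l le_rfl)
  · haveI := normalizer_eq_top_iff.1 n
    exact h (e.trans (sup_le (((le_pPrimeCore c).trans_eq h0).trans bot_le) le_rfl))

theorem case_two [Group.IsSolvable G] (hp : p.Prime) (h0 : pPrimeCore p G = ⊥) {a b c : ℕ} (hab : a < b)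
    (hbc : b < c)
    (hd : ∀ χ, IsIrrCharacter G χ → charDegree χ = 1 ∨ charDegree χ = a ∨ charDegree χ = b ∨ charDegree χ = c)
    (h2 : ¬ derivedSeries G 2 ≤ pCore p G) : derivedSeries G 4 = ⊥ := by
  haveI := Fact.mk hp
  by_contra hV
  have hF := isPGroup_pCore p G
  have eF := fittingSubgroup_eq_pCore_of_pPrimeCore_eq_bot hp h0
  set F := pCore p G
  have hr : ∀ χ, IsIrrCharacter G χ → F ≤ cker χ → charDegree χ = 1 ∨ charDegree χ = a ∨ charDegree χ = b :=
    fun χ hχ h => by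
      obtain ⟨ψ, h1, h3⟩ := exists_deg_lt_of_fitting_le (fun e => h2 (le_top.trans_eq (e.symm.trans eF))) hχ
        (eF.trans_le h)
      have := hd χ hχ
      have := hd ψ h1
      omega
  have h3 : derivedSeries G 3 ≤ F := (derivedSeries_quotient_eq_bot_iff F 3).1
    (derived_three_of_three_deg (quot_deg F (S := fun n => n = 1 ∨ n = a ∨ n = b) hr))
  have tl : ∀ {T : Subgroup G}, T.index ∣ a → ∀ {χ}, IsIrrCharacter G χ → charDegree χ = a →
      _root_.commutator G ≤ T := fun h _ hχ e => comm_le_of_index_le (fun ψ hψ => by have := hd ψ hψ; omega)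
    (Nat.le_of_dvd (e ▸ deg_pos hχ) h)
  set Y := derivedSeries G 2 ⊔ F
  set N := _root_.commutator G ⊔ F
  have FY : F ≤ Y := le_sup_right
  have FN : F ≤ N := le_sup_right
  have hY : ⁅Y, Y⁆ ≤ F := comm_sup_le h3 le_rfl
  have hY' : ⁅⁅Y, Y⁆, Y⁆ ≤ F := (commutator_le_left _ _).trans hY
  have NY : ⁅N, N⁆ ≤ Y := comm_sup_le le_sup_left FY
  have pY : ¬ p ∣ F.relIndex Y := not_dvd_rel hY' hp
  have nl : ∀ {χ}, IsIrrCharacter G χ → F ≤ cker χ → ¬ Y ≤ cker χ → charDegree χ = a ∨ charDegree χ = b :=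
    fun hχ h1 h2 => (hr _ hχ h1).resolve_left fun e =>
      h2 (sup_le ((commutator_le_left _ _).trans ((deg_eq_one_iff_commutator_le hχ).1 e)) h1)
  have c2 : ∀ {q k : ℕ} {X : Subgroup G} [X.Normal], q.Prime → X ≤ Y → F.relIndex X = q ^ k → ∀ {θ χ},
      IsIrrCharacter F θ → IsIrrCharacter G χ → Ov F χ θ → ¬ X ≤ inertia F θ → charDegree χ = c := by
    intro q k X _ hq h1 h4 θ χ hθ hχ o h
    have hI := le_inertia F (isClassFunction_of_isIrr hθ)
    obtain ⟨ψ, s1, s2, s3, s4⟩ := exists_small' hI h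
    have d := index_inertia_dvd F hχ hθ o
    have := Nat.le_of_dvd (deg_pos hχ) d
    have := deg_pos s1
    have := hd χ hχ
    rcases nl s1 s2 fun c => s3 (h1.trans c) with e | e
    · have : charDegree χ ≠ b := fun e' => not_dvd_of_mid' hq hr hab h4 h1 s1 s2 e s3
        (e' ▸ (by_contra fun c => h (le_of_not_dvd hq hI h4 c) : q ∣ _).trans d)
      omega
    · omega
  have pc : ¬ p ∣ c := by
    have n : F.relIndex Y ≠ 1 := mt relIndex_eq_one.1 fun c => h2 (le_sup_left.trans c)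
    have hq := Nat.minFac_prime n
    obtain ⟨X, _, x1, x2, ⟨k, x3⟩, x4⟩ := exists_syl FY hY' hq
    obtain ⟨χ, d1, d2, d3⟩ := exists_moved hp h0 hF hq (fun e => pY (e ▸ Nat.minFac_dvd _)) x3
      fun c => x4 ((Nat.minFac_dvd _).trans (relIndex_dvd_of_le_left Y c))
    obtain ⟨μ, m1, m2⟩ := exists_irr_under F d1
    exact c2 hq x2 x3 m1 d1 m2 (fun c => d3 ((Ov.cker_iff (commutator_le_right X F) d1 m1 m2).1 (comm_le_cker m1
      (deg_eq_one_of_isPGroup hF m1 fun c => d2 (c.trans (deg_dvd_of_over F d1 m1 m2))) c))) ▸ d2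
  obtain ⟨χ4, i4, k4⟩ := exists_not_le hV
  obtain ⟨θ, t1, t2⟩ := exists_irr_under F i4
  have t3 : p ∣ charDegree θ := by_contra fun c =>
    k4 ((commutator_mono h3 h3).trans (Ov.comm_le i4 t1 t2 (deg_eq_one_of_isPGroup hF t1 c)))
  have hI := le_inertia F (isClassFunction_of_isIrr t1)
  have ov : ∀ {χ}, IsIrrCharacter G χ → Ov F χ θ → charDegree χ = a ∨ charDegree χ = b := fun {χ} hχ o => by
    have d := t3.trans (deg_dvd_of_over F hχ t1 o)
    have h1 : charDegree χ ≠ 1 := fun e => hp.ne_one (Nat.dvd_one.1 (e ▸ d))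
    have h4 : charDegree χ ≠ c := fun e => pc (e ▸ d)
    have := hd χ hχ
    omega
  have iY : Y ≤ inertia F θ := by_contra fun n => by
    have hq := Nat.minFac_prime (mt relIndex_eq_one.1 n)
    obtain ⟨X, _, x1, x2, ⟨k, x3⟩, x4⟩ := exists_syl FY hY' hq
    have := c2 hq x2 x3 t1 i4 t2 fun c => x4 ((Nat.minFac_dvd _).trans (relIndex_dvd_of_le_left Y c))
    have := ov i4 t2
    omega
  have pr : ∀ (X : Subgroup G) [X.Normal], X ≤ Y → ¬ X ≤ F → ∃ β η χ, IsIrrCharacter Y β ∧ IsIrrCharacter G η ∧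
      IsIrrCharacter G χ ∧ charDegree β = 1 ∧ ¬ X.subgroupOf Y ≤ cker β ∧ N ≤ inertia Y β ∧ F ≤ cker η ∧
      ¬ X ≤ cker η ∧ Ov F χ θ ∧ (charDegree η = a ∧ charDegree χ = b ∧ a.factorization p < b.factorization p ∨
        charDegree χ = a ∧ b.factorization p < a.factorization p) := fun X _ x1 x2 => by
    obtain ⟨g, g1, g2⟩ := SetLike.not_le_iff_exists.1 x2
    obtain ⟨β, b1, b2, b3⟩ := exists_irr_le_cker_not_mem (F.subgroupOf Y) (g := ⟨g, x1 g1⟩) g2
    obtain ⟨η, χ, d1, d2, d3, d4, d5, d6⟩ := exists_pair hp hF FY pY t1 t3 iY b1 b2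
    have f1 := (Ov.cker_iff FY d1 b1 d3).1 b2
    have f2 : ¬ X ≤ cker η := fun c => b3 ((Ov.cker_iff x1 d1 b1 d3).2 c g1)
    have f3 : charDegree η = a ∧ charDegree χ = b ∧ a.factorization p < b.factorization p ∨
        charDegree χ = a ∧ b.factorization p < a.factorization p := by
      rcases nl d1 f1 fun c => f2 (x1.trans c) with e | e <;> rcases ov d2 d4 with e' | e' <;> rw [e, e'] at d6
      exacts [absurd d6 (lt_irrefl _), .inl ⟨e, e', d6⟩, .inr ⟨e', d6⟩, absurd d6 (lt_irrefl _)]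
    refine ⟨β, η, χ, b1, d1, d2, (deg_eq_one_iff_commutator_le b1).2 (le_trans ?_ b2), fun c => b3 (c g1),
      sup_le ?_ (FY.trans (le_inertia Y (isClassFunction_of_isIrr b1))), f1, f2, d4, f3⟩
    · rw [← map_le_map_iff_of_injective Y.subtype_injective, map_subtype_commutator, map_subgroupOf_eq_of_le FY]
      exact hY
    · exact f3.elim (fun e => tl (e.1 ▸ index_inertia_dvd Y d1 b1 d3) d1 e.1)
        fun e => tl (e.1 ▸ (Dvd.intro _ rfl).trans d5) d2 e.1
  have hN : ⁅⁅N, N⁆, N⁆ ≤ F := (commutator_mono NY le_rfl).trans (commutator_comm Y N ▸ by_contra fun n => by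
    obtain ⟨β, -, -, b1, -, -, b2, b3, b4, -⟩ := pr ⁅N, Y⁆ (commutator_le_right N Y) n
    exact b3 (comm_le_cker b1 b2 b4))
  have pN : ¬ p ∣ F.relIndex N := not_dvd_rel hN hp
  obtain ⟨ξ, x1, x2, x3⟩ := exists_nonlin (F := F) (R := N) fun c =>
    h2 ((commutator_mono le_sup_left le_sup_left).trans c)
  have hq := Nat.minFac_prime x3
  obtain ⟨S, _, s1, s2, ⟨k, s3⟩, s4⟩ := exists_syl FN hN hq
  have s5 : ¬ ⁅S, S⁆ ≤ F := fun c => s4 ((Nat.minFac_dvd _).trans (deg_dvd_index_of_commutator_le_cker x1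
    (S.subgroupOf N) (comm_subgroupOf s2 ▸ (comap_mono c).trans x2)))
  have s6 : ⁅S, S⁆ ≤ Y := (commutator_mono s2 s2).trans NY
  obtain ⟨-, η, χ, -, d1, d2, -, -, -, d3, d4, d5, ⟨e1, e2, -⟩ | ⟨e1, e2⟩⟩ := pr ⁅S, S⁆ s6 s5
  · obtain ⟨j, -, hj⟩ := (Nat.dvd_prime_pow hq).1 (((relIndex_subgroupOf (commutator_le_left S S)).symm.dvd.trans
      (relIndex_dvd_index_of_normal (F.subgroupOf S) _)).trans s3.dvd)
    have qb := not_dvd_of_mid' hq hr hab hj s6 d1 d3 e1 d4
    obtain ⟨β, b1, b2, b3⟩ := exists_nonlin s5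
    obtain ⟨i, -, hi⟩ := (Nat.dvd_prime_pow hq).1 ((deg_dvd_index_of_le_cker b1 _ b2).trans s3.dvd)
    have b4 : (charDegree ξ).minFac ∣ charDegree β := hi ▸ dvd_pow_self _ fun e => b3 (by rw [hi, e, pow_zero])
    obtain ⟨η', χ', g1, g2, g3, g4, g5, g6⟩ := exists_pair hp hF s1
      (fun c => pN (c.trans (Dvd.intro _ (relIndex_mul_relIndex _ _ _ s1 s2)))) t1 t3
      (le_of_not_dvd hq hI s3 fun c => qb (e2 ▸ c.trans (index_inertia_dvd F d2 t1 d5))) b1 b2
    have g7 := b4.trans (deg_dvd_of_over S g1 b1 g3)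
    rw [(ov g2 g4).resolve_right fun e => qb (e ▸ (b4.mul_left _).trans g5)] at g6
    rcases hr η' g1 ((Ov.cker_iff s1 g1 b1 g3).1 b2) with e | e | e <;> rw [e] at g6 g7
    exacts [hq.ne_one (Nat.dvd_one.1 g7), lt_irrefl _ g6, qb g7]
  · obtain ⟨ψ, f1, f2, f3⟩ : ∃ ψ, IsIrrCharacter G ψ ∧ F ≤ cker ψ ∧ charDegree ψ = a := by
      by_contra n
      push Not at n
      exact h2 ((derivedSeries_quotient_eq_bot_iff F 2).1 (derived_two_of_two_deg (quot_deg F
        (S := fun n => n = 1 ∨ n = b) fun χ h1 h4 => (hr χ h1 h4).imp_right fun h => h.resolve_left (n χ h1 h4))))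
    obtain ⟨β, b1, b2⟩ := exists_irr_under N f1
    obtain ⟨η, χ', g1, g2, g3, g4, -, g5⟩ := exists_pair hp hF FN pN t1 t3
      (sup_le (tl (e1 ▸ index_inertia_dvd F d2 t1 d5) d2 e1) hI) b1 ((Ov.cker_iff FN f1 b1 b2).2 f2)
    rw [le_antisymm (deg_le_of_ov le_sup_left f1 g1 b1 b2 g3) (deg_le_of_ov le_sup_left g1 f1 b1 g3 b2), f3] at g5
    rcases ov g2 g4 with e | e <;> rw [e] at g5 <;> omega

theorem derived_four_aux {a b c : ℕ} (hab : a < b) (hbc : b < c) (n : ℕ) :
    ∀ (G : Type u) [Group G] [Finite G] [Group.IsSolvable G], Nat.card G = n → (∀ χ, IsIrrCharacter G χ →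
      charDegree χ = 1 ∨ charDegree χ = a ∨ charDegree χ = b ∨ charDegree χ = c) → derivedSeries G 4 = ⊥ := by
  induction n using Nat.strong_induction_on with | _ n ih => ?_
  intro G _ _ _ hn hd
  have k : ∀ (L : Subgroup G) [L.Normal], L ≠ ⊥ → derivedSeries G 4 ≤ L := fun L _ h =>
    (derivedSeries_quotient_eq_bot_iff L 4).1 (ih _ (hn ▸ card_quotient_lt_of_ne_bot h) _ rfl
      (quot_deg L (S := fun n => n = 1 ∨ n = a ∨ n = b ∨ n = c) fun χ h _ => hd χ h))
  rcases subsingleton_or_nontrivial G with h | h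
  · exact Subsingleton.elim _ _
  obtain ⟨p, hp, h1⟩ := exists_pCore_ne_bot (G := G)
  haveI := Fact.mk hp
  by_cases h0 : pPrimeCore p G = ⊥
  · exact (em _).elim (case_one hp h0 hd) (case_two hp h0 hab hbc hd)
  · exact le_bot_iff.1 ((le_inf (k _ h1) (k _ h0)).trans_eq pCore_inf_pPrimeCore)

theorem derived_four_le [Group.IsSolvable G] {a b c : ℕ} (hab : a ≤ b) (hbc : b ≤ c) (hd : ∀ χ, IsIrrCharacter G χ →
    charDegree χ = 1 ∨ charDegree χ = a ∨ charDegree χ = b ∨ charDegree χ = c) : derivedSeries G 4 = ⊥ := by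
  by_cases h : a < b ∧ b < c
  · exact derived_four_aux h.1 h.2 _ G rfl hd
  · exact le_bot_iff.1 ((derivedSeries_antitone G (by omega : 3 ≤ 4)).trans_eq
      (derived_three_of_three_deg (m := a) (n := c) fun χ hχ => by have := hd χ hχ; omega))

theorem derived_four [Group.IsSolvable G] {a b c : ℕ} (hd : ∀ χ, IsIrrCharacter G χ →
    charDegree χ = 1 ∨ charDegree χ = a ∨ charDegree χ = b ∨ charDegree χ = c) : derivedSeries G 4 = ⊥ := by
  rcases le_total a b with h1 | h1 <;> rcases le_total b c with h2 | h2 <;> rcases le_total a c with h3 | h3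
  all_goals first
    | exact derived_four_le h1 h2 fun χ hχ => by have := hd χ hχ; omega
    | exact derived_four_le h2 h1 fun χ hχ => by have := hd χ hχ; omega
    | exact derived_four_le h3 h2 fun χ hχ => by have := hd χ hχ; omega
    | exact derived_four_le h2 h3 fun χ hχ => by have := hd χ hχ; omega
    | exact derived_four_le h1 h3 fun χ hχ => by have := hd χ hχ; omega
    | exact derived_four_le h3 h1 fun χ hχ => by have := hd χ hχ; omega

end CfsgLib.Garr
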